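import Groth.Agent.CAlg.K71.HensColim
import Groth.Agent.S2045
import Groth.Agent.S0599
import Groth.Agent.S2653
import Groth.Agent.Ega4B.GRingLoc
import Mathlib.RingTheory.Localization.AtPrime.Basic

/-!
# Henselian local rings are directed colimits of henselian local G-rings
-/

set_option autoImplicit false
universe u v

open IsLocalRing

namespace K71.HensGRing

/-- The integers are a G-ring. -/
theorem isGRing_int : CAlg.IsGRing (ULift.{u} ℤ) := by
  have h1 : IsDomain (ULift.{u} ℤ) := (ULift.ringEquiv (R := ℤ)).isDomain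
  have h2 : IsPrincipalIdealRing (ULift.{u} ℤ) :=
    IsPrincipalIdealRing.of_surjective (ULift.ringEquiv (R := ℤ)).symm.toRingHom
      (ULift.ringEquiv (R := ℤ)).symm.surjective
  have h3 : CharZero (ULift.{u} ℤ) :=
    charZero_of_injective_ringHom (f := (ULift.ringEquiv (R := ℤ)).symm.toRingHom)
      (ULift.ringEquiv (R := ℤ)).symm.injective
  exact Groth.Agent.S2653.isGRing_of_isDedekindDomain (ULift.{u} ℤ)

/-- Rings of finite type over `ℤ` are G-rings. -/
theorem isGRing_of_finiteType_int (B : Type u) [CommRing B] [hB : Algebra.FiniteType ℤ B] :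
    CAlg.IsGRing B := by
  let g : ULift.{u} ℤ →+* B := (algebraMap ℤ B).comp (ULift.ringEquiv (R := ℤ)).toRingHom
  have hg : g.FiniteType := RingHom.FiniteType.comp (RingHom.finiteType_algebraMap.mpr hB)
    (RingHom.FiniteType.of_surjective _ (ULift.ringEquiv (R := ℤ)).surjective)
  let _ : Algebra (ULift.{u} ℤ) B := g.toAlgebra
  have : Algebra.FiniteType (ULift.{u} ℤ) B := hg
  exact Groth.Agent.S0599.result (ULift.{u} ℤ) isGRing_int B

section

variable {A : Type u} [CommRing A] [IsLocalRing A] {ι : Type u} {B : ι → Type u}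
  [∀ i, CommRing (B i)] (val : ∀ i, B i →+* A) (hinj : ∀ i, Function.Injective (val i))

/-- the trace of the maximal ideal -/
def m (i : ι) : Ideal (B i) := (maximalIdeal A).comap (val i)

theorem mem_m {i : ι} (a : B i) : a ∈ m val i ↔ val i a ∈ maximalIdeal A := Iff.rfl

instance (i : ι) : (m val i).IsPrime := Ideal.comap_isPrime _ _

/-- the local rings -/
abbrev L (i : ι) : Type u := Localization.AtPrime (m val i)

theorem isUnit_val (i : ι) (s : (m val i).primeCompl) : IsUnit (val i s) := by
  have h1 : val i s ∉ maximalIdeal A := s.2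
  rwa [mem_maximalIdeal, mem_nonunits_iff, not_not] at h1

/-- the maps to `A` -/
noncomputable def ρ (i : ι) : L val i →+* A :=
  IsLocalization.lift (M := (m val i).primeCompl) (isUnit_val val i)

theorem ρ_algebraMap (i : ι) (a : B i) : ρ val i (algebraMap (B i) (L val i) a) = val i a :=
  IsLocalization.lift_eq (M := (m val i).primeCompl) (isUnit_val val i) a

theorem ρ_mk (i : ι) (a : B i) (s : (m val i).primeCompl) :
    ρ val i (IsLocalization.mk' _ a s) * (val i s) = val i a := by
  rw [← ρ_algebraMap val i s, ← map_mul, IsLocalization.mk'_spec, ρ_algebraMap]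

theorem isLocalHom_ρ (i : ι) : IsLocalHom (ρ val i) := by
  refine ⟨fun x hx => ?_⟩
  obtain ⟨a, s, rfl⟩ := IsLocalization.exists_mk'_eq (m val i).primeCompl x
  have h1 : IsUnit (val i a) := by
    rw [← ρ_mk val i a s]
    exact hx.mul (isUnit_val val i s)
  have h2 : a ∈ (m val i).primeCompl := by
    intro h3
    have h4 : val i a ∈ maximalIdeal A := h3
    exact h4 h1
  exact (IsLocalization.AtPrime.isUnit_mk'_iff _ (m val i) a s).2 h2

include hinj in
theorem ρ_injective (i : ι) : Function.Injective (ρ val i) := by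
  rw [injective_iff_map_eq_zero]
  intro x hx
  obtain ⟨a, s, rfl⟩ := IsLocalization.exists_mk'_eq (m val i).primeCompl x
  have h1 : val i a = 0 := by
    rw [← ρ_mk val i a s, hx, zero_mul]
  have h2 : a = 0 := hinj i (by rw [h1, map_zero])
  rw [h2, IsLocalization.mk'_zero]

variable [Preorder ι] (inc : ∀ i j : ι, i ≤ j → (B i →+* B j))
  (hval : ∀ (i j : ι) (h : i ≤ j) (a : B i), val j (inc i j h a) = val i a)

include hval in
theorem m_comap {i j : ι} (h : i ≤ j) : m val i = (m val j).comap (inc i j h) := by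
  ext a
  rw [Ideal.mem_comap, mem_m, mem_m, hval]

/-- transition maps -/
noncomputable def l (i j : ι) (h : i ≤ j) : L val i →+* L val j :=
  Localization.localRingHom (m val i) (m val j) (inc i j h) (m_comap val inc hval h)

theorem isLocalHom_l (i j : ι) (h : i ≤ j) : IsLocalHom (l val inc hval i j h) :=
  Localization.isLocalHom_localRingHom (m val i) (m val j) _ (m_comap val inc hval h)

theorem ρ_l (i j : ι) (h : i ≤ j) (x : L val i) :
    ρ val j (l val inc hval i j h x) = ρ val i x := by
  have h1 : (ρ val j).comp (l val inc hval i j h) = ρ val i := by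
    apply IsLocalization.ringHom_ext (m val i).primeCompl
    ext a
    change ρ val j (l val inc hval i j h (algebraMap (B i) (L val i) a)) =
      ρ val i (algebraMap (B i) (L val i) a)
    rw [l, Localization.localRingHom_to_map, ρ_algebraMap, ρ_algebraMap, hval]
  exact congr($h1 x)

include hinj in
theorem directedSystem : DirectedSystem (L val) (fun i j h => l val inc hval i j h) where
  map_self := fun i x => by
    apply ρ_injective val hinj i
    rw [ρ_l]
  map_map := fun {k j i} hij hjk x => by
    apply ρ_injective val hinj k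
    rw [ρ_l, ρ_l, ρ_l]

end

theorem isGRing_of_isHenselization {R S : Type u} [CommRing R] [IsLocalRing R]
    (hR : CAlg.IsGRing R) [CommRing S] [IsLocalRing S] [Algebra R S] [IsLocalHom (algebraMap R S)]
    (h : Hensel.IsHenselization R S) : CAlg.IsGRing S := by
  have : IsNoetherianRing R := hR.1
  exact Groth.Agent.S2045.result (R := R) (S := S) hR

theorem exists_system_of (A : Type u) [CommRing A] [HenselianLocalRing A] (ι : Type u) [Preorder ι]
    [IsDirectedOrder ι] [Nonempty ι] (B : ι → Type u)
    [∀ i, CommRing (B i)] (inc : ∀ i j : ι, i ≤ j → (B i →+* B j)) (val : ∀ i, B i →+* A)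
    (hval : ∀ (i j : ι) (h : i ≤ j) (a : B i), val j (inc i j h a) = val i a)
    (hinj : ∀ i, Function.Injective (val i)) (hsurj : ∀ a : A, ∃ i x, val i x = a)
    (hG : ∀ i, CAlg.IsGRing (B i)) :
    ∃ (G : ι → Type u)
      (_ : ∀ i, CommRing (G i)) (f : ∀ i j : ι, i ≤ j → (G i →+* G j))
      (_ : DirectedSystem G (fun i j h => f i j h)),
      (∀ i, HenselianLocalRing (G i) ∧ CAlg.IsGRing (G i)) ∧
      (∀ (i j : ι) (h : i ≤ j), IsLocalHom (f i j h)) ∧
      Nonempty (A ≃+* DirectLimit G f) := by
  classical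
  choose H h1 h2 h3 h4 h5 using fun i => Groth.Agent.Hensel.Exist.exists_isHenselization (L val i)
  have hH : ∀ i, Hensel.IsHenselization (L val i) (H i) := fun i => (h5 i).1
  have hdir := directedSystem val hinj inc hval
  obtain ⟨h, hdir', hloc, hA⟩ := K71.HensColim.exists_hensel_system A ι (L val) (l val inc hval)
    (isLocalHom_l val inc hval) (ρ val) (isLocalHom_ρ val) (ρ_l val inc hval)
    (fun a => by
      obtain ⟨i, x, rfl⟩ := hsurj a
      exact ⟨i, _, ρ_algebraMap val i x⟩)
    (fun i x hx => ⟨i, le_rfl, by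
      have h0 : x = 0 := ρ_injective val hinj i (by rw [hx, map_zero])
      rw [h0, map_zero]⟩) H
  refine ⟨H, h1, h, hdir', ?_, hloc, hA⟩
  intro i
  have hG2 : CAlg.IsGRing (L val i) :=
    Groth.Agent.Ega4B.GRingLoc.isGRing_of_isLocalization (B i) (L val i) (m val i).primeCompl (hG i)
  exact ⟨Hensel.IsHenselization.henselian (R := L val i), isGRing_of_isHenselization hG2 (hH i)⟩

theorem exists_system_sub (A : Type u) [CommRing A] [HenselianLocalRing A] (ι : Type u) [Preorder ι]
    [IsDirectedOrder ι] [Nonempty ι] (S : ι → Subalgebra ℤ A) (hS : ∀ i j : ι, i ≤ j → S i ≤ S j)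
    (hsurj : ∀ a : A, ∃ i, a ∈ S i) (hG : ∀ i, CAlg.IsGRing (S i)) :
    ∃ (G : ι → Type u)
      (_ : ∀ i, CommRing (G i)) (f : ∀ i j : ι, i ≤ j → (G i →+* G j))
      (_ : DirectedSystem G (fun i j h => f i j h)),
      (∀ i, HenselianLocalRing (G i) ∧ CAlg.IsGRing (G i)) ∧
      (∀ (i j : ι) (h : i ≤ j), IsLocalHom (f i j h)) ∧
      Nonempty (A ≃+* DirectLimit G f) :=
  exists_system_of A ι (fun i => S i)
    (fun i j h => (Subalgebra.inclusion (hS i j h) : _ →+* _))
    (fun i => ((S i).val : _ →+* _))
    (fun i j h a => Subalgebra.coe_inclusion (hS i j h) a)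
    (fun i => Subtype.val_injective)
    (fun a => ⟨(hsurj a).choose, ⟨a, (hsurj a).choose_spec⟩, rfl⟩) hG

theorem exists_system (A : Type u) [CommRing A] [HenselianLocalRing A] :
    ∃ (ι : Type u) (_ : Preorder ι) (_ : IsDirectedOrder ι) (_ : Nonempty ι) (G : ι → Type u)
      (_ : ∀ i, CommRing (G i)) (f : ∀ i j : ι, i ≤ j → (G i →+* G j))
      (_ : DirectedSystem G (fun i j h => f i j h)),
      (∀ i, HenselianLocalRing (G i) ∧ CAlg.IsGRing (G i)) ∧
      (∀ (i j : ι) (h : i ≤ j), IsLocalHom (f i j h)) ∧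
      Nonempty (A ≃+* DirectLimit G f) := by
  classical
  obtain ⟨G, h1, f, h2, h3⟩ := exists_system_sub A (Finset A)
    (fun i => Algebra.adjoin ℤ (i : Set A))
    (fun i j h => Algebra.adjoin_mono (Finset.coe_subset.2 h))
    (fun a => ⟨{a}, Algebra.subset_adjoin (by simp)⟩)
    (fun i => by
      have hft : Algebra.FiniteType ℤ (Algebra.adjoin ℤ (i : Set A)) :=
        (Subalgebra.fg_iff_finiteType _).1 (Subalgebra.fg_adjoin_finset i)
      exact isGRing_of_finiteType_int _)
  exact ⟨Finset A, inferInstance, inferInstance, inferInstance, G, h1, f, h2, h3⟩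

end K71.HensGRing
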