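import Groth.Agent.Ega41.PowComplete
import Mathlib.RingTheory.MvPowerSeries.Substitution
import Mathlib.RingTheory.MvPowerSeries.Inverse
import Mathlib.RingTheory.AdicCompletion.Noetherian
import Mathlib.RingTheory.AdicCompletion.Functoriality
import Mathlib.RingTheory.Filtration

/-!
# Substitution of a system of parameters in a power series ring is bijective
-/

set_option autoImplicit false
universe u

namespace K71.PowSubst

open IsLocalRing MvPowerSeries

/-- A surjective endomorphism of a noetherian ring is injective. -/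
theorem injective_of_surjective {A : Type*} [CommRing A] [IsNoetherianRing A] (f : A →+* A)
    (hf : Function.Surjective f) : Function.Injective f := by
  have hpow : ∀ (n : ℕ) (x : A), (f ^ n) x = f^[n] x := fun n x => by
    rw [RingHom.coe_pow]
  let c : ℕ →o Ideal A :=
    { toFun := fun n => RingHom.ker (f ^ n)
      monotone' := by
        apply monotone_nat_of_le_succ
        intro n x hx
        rw [RingHom.mem_ker] at hx ⊢
        rw [hpow] at hx ⊢
        rw [Function.iterate_succ_apply', hx, map_zero] }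
  obtain ⟨n, hn⟩ := (monotone_stabilizes_iff_noetherian (R := A) (M := A)).2 inferInstance c
  rw [injective_iff_map_eq_zero]
  intro x hx
  obtain ⟨y, rfl⟩ := hf.iterate n x
  have h1 : y ∈ c (n + 1) := by
    change y ∈ RingHom.ker (f ^ (n + 1))
    rw [RingHom.mem_ker, hpow, Function.iterate_succ_apply', hx]
  rw [← hn (n + 1) (Nat.le_succ n)] at h1
  have h2 : y ∈ RingHom.ker (f ^ n) := h1
  rwa [RingHom.mem_ker, hpow] at h2

variable {Λ : Type u} [CommRing Λ] [IsLocalRing Λ] [IsNoetherianRing Λ]
  [IsAdicComplete (maximalIdeal Λ) Λ] {n : ℕ}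

theorem subst_bijective (y : Fin n → MvPowerSeries (Fin n) Λ)
    (hy0 : ∀ i, constantCoeff (y i) = 0)
    (hy : maximalIdeal (MvPowerSeries (Fin n) Λ) ≤
      (maximalIdeal Λ).map (C : Λ →+* MvPowerSeries (Fin n) Λ) ⊔ Ideal.span (Set.range y)) :
    Function.Bijective (MvPowerSeries.subst y : MvPowerSeries (Fin n) Λ → MvPowerSeries (Fin n) Λ) := by
  have hs : HasSubst y := hasSubst_of_constantCoeff_zero hy0
  have hNB : IsNoetherianRing (MvPowerSeries (Fin n) Λ) := inferInstance
  suffices h : Function.Surjective (substAlgHom (R := Λ) hs) by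
    have h1 : Function.Bijective (substAlgHom (R := Λ) hs) :=
      ⟨injective_of_surjective (substAlgHom (R := Λ) hs).toRingHom h, h⟩
    rwa [coe_substAlgHom] at h1
  let φ : MvPowerSeries (Fin n) Λ →+* MvPowerSeries (Fin n) Λ := (substAlgHom (R := Λ) hs).toRingHom
  change Function.Surjective φ
  let I : Ideal (MvPowerSeries (Fin n) Λ) := Ideal.span (Set.range X)
  have hIc : IsAdicComplete I (MvPowerSeries (Fin n) Λ) :=
    Groth.Agent.Ega41.PowComplete.isAdicComplete_span_X _ _
  have hImap : I.map φ = Ideal.span (Set.range y) := by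
    rw [Ideal.map_span, ← Set.range_comp]
    congr 1
    ext x
    simp only [Set.mem_range, Function.comp_apply]
    refine exists_congr fun i => ?_
    change substAlgHom (R := Λ) hs (X i) = x ↔ _
    rw [substAlgHom_X]
  have hyle : Ideal.span (Set.range y) ≤ maximalIdeal (MvPowerSeries (Fin n) Λ) := by
    rw [Ideal.span_le]
    rintro _ ⟨i, rfl⟩
    rw [SetLike.mem_coe, mem_maximalIdeal, mem_nonunits_iff, MvPowerSeries.isUnit_iff_constantCoeff, hy0]
    exact not_isUnit_zero
  have hH : IsHausdorff (I.map φ) (MvPowerSeries (Fin n) Λ) := by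
    rw [hImap]
    refine IsHausdorff.of_le_jacobson _ _ (hyle.trans ?_)
    exact (IsLocalRing.jacobson_eq_maximalIdeal ⊥ bot_ne_top).ge
  refine surjective_of_mk_map_comp_surjective (I := I) φ ?_
  -- it is enough to see that `Λ` surjects onto the quotient
  let J := I.map φ
  let g : Λ →+* MvPowerSeries (Fin n) Λ ⧸ J := (Ideal.Quotient.mk J).comp C
  have hJtop : J ≠ ⊤ := by
    intro h
    have : J ≤ maximalIdeal (MvPowerSeries (Fin n) Λ) := by rw [show J = _ from hImap]; exact hyle
    rw [h] at this
    exact (maximalIdeal.isMaximal (MvPowerSeries (Fin n) Λ)).ne_top (top_le_iff.1 this)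
  have hnt : Nontrivial (MvPowerSeries (Fin n) Λ ⧸ J) := Ideal.Quotient.nontrivial_iff.2 hJtop
  have hloc : IsLocalRing (MvPowerSeries (Fin n) Λ ⧸ J) :=
    IsLocalRing.of_surjective' (Ideal.Quotient.mk J) Ideal.Quotient.mk_surjective
  have hgm : (maximalIdeal Λ).map g ≤ maximalIdeal (MvPowerSeries (Fin n) Λ ⧸ J) := by
    rw [Ideal.map_le_iff_le_comap]
    intro a ha
    rw [Ideal.mem_comap, mem_maximalIdeal, mem_nonunits_iff]
    intro hu
    have h1 : ¬ IsUnit (C a : MvPowerSeries (Fin n) Λ) := by
      rw [MvPowerSeries.isUnit_iff_constantCoeff, constantCoeff_C]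
      exact (mem_maximalIdeal a).1 ha
    have h2 : (C a : MvPowerSeries (Fin n) Λ) ∈ maximalIdeal (MvPowerSeries (Fin n) Λ) := h1
    have : IsLocalHom (Ideal.Quotient.mk J) := IsLocalHom.of_surjective _ Ideal.Quotient.mk_surjective
    exact h1 ((isUnit_map_iff (Ideal.Quotient.mk J) _).1 hu)
  have hNq : IsNoetherianRing (MvPowerSeries (Fin n) Λ ⧸ J) :=
    isNoetherianRing_of_surjective _ _ (Ideal.Quotient.mk J) Ideal.Quotient.mk_surjective
  have hHg : IsHausdorff ((maximalIdeal Λ).map g) (MvPowerSeries (Fin n) Λ ⧸ J) := by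
    refine IsHausdorff.of_le_jacobson _ _ (hgm.trans ?_)
    exact (IsLocalRing.jacobson_eq_maximalIdeal ⊥ bot_ne_top).ge
  have hg : Function.Surjective g := by
    refine surjective_of_mk_map_comp_surjective (I := maximalIdeal Λ) g ?_
    intro z
    obtain ⟨z, rfl⟩ := Ideal.Quotient.mk_surjective z
    obtain ⟨f, rfl⟩ := Ideal.Quotient.mk_surjective z
    refine ⟨constantCoeff f, ?_⟩
    rw [RingHom.comp_apply, Ideal.Quotient.mk_eq_mk_iff_sub_mem]
    have h1 : C (constantCoeff f) - f ∈ maximalIdeal (MvPowerSeries (Fin n) Λ) := by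
      rw [mem_maximalIdeal, mem_nonunits_iff, MvPowerSeries.isUnit_iff_constantCoeff]
      simp
    have h2 := Ideal.mem_map_of_mem (Ideal.Quotient.mk J) (hy h1)
    rw [Ideal.map_sup, Ideal.map_map, ← hImap, Ideal.map_quotient_self, sup_bot_eq] at h2
    rw [map_sub] at h2
    exact h2
  intro z
  obtain ⟨a, ha⟩ := hg z
  refine ⟨C a, ?_⟩
  rw [← ha]
  change Ideal.Quotient.mk J (φ (C a)) = Ideal.Quotient.mk J (C a)
  congr 1
  exact (substAlgHom (R := Λ) hs).commutes a

end K71.PowSubst
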