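import Groth.Agent.CalgA.RegBasic
import Mathlib.Algebra.MvPolynomial.Rename
import Mathlib.RingTheory.Ideal.Quotient.Basic

/-!
# Noetherian "colimits" of regular local rings are regular

`Fac k S`: finitely many elements of the local `k`-algebra `S` satisfying finitely many polynomial
relations over `k` lift, with the relations, to a regular local ring with a local homomorphism to `S`.

* `Fac.isRegularLocalRing`: a Noetherian local ring `S` with `Fac k S` is a regular local ring.
-/

set_option autoImplicit false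
universe u v

namespace K71.ColimRegular

open IsLocalRing MvPolynomial

/-- Lifting of finite systems of equations to regular local rings. -/
def Fac (k : Type v) (S : Type u) [CommRing k] [CommRing S] [IsLocalRing S] [Algebra k S] : Prop :=
  ∀ (ι κ : Type) [Finite ι] [Finite κ] (c : ι → S) (F : κ → MvPolynomial ι k),
    (∀ j, aeval c (F j) = 0) →
    ∃ (R : Type u) (_ : CommRing R) (_ : Algebra k R) (_ : IsRegularLocalRing R) (χ : R →ₐ[k] S)
      (e : ι → R), IsLocalHom (χ : R →+* S) ∧ (∀ i, χ (e i) = c i) ∧ ∀ j, aeval e (F j) = 0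

variable {k : Type v} [CommRing k]

theorem Fac.quotient {S : Type u} [CommRing S] [IsLocalRing S] [Algebra k S] (h : Fac k S) (x : S)
    (hx : x ∈ maximalIdeal S) (hx2 : x ∉ maximalIdeal S ^ 2) [IsLocalRing (S ⧸ Ideal.span {x})] :
    Fac k (S ⧸ Ideal.span {x}) := by
  intro ι κ _ _ c F hF
  choose c' hc' using fun i => Ideal.Quotient.mk_surjective (c i)
  have hrel : ∀ j, aeval c' (F j) ∈ Ideal.span {x} := by
    intro j
    rw [← Ideal.Quotient.eq_zero_iff_mem]
    have h1 : (Ideal.Quotient.mkₐ k (Ideal.span {x})).comp (aeval c') = aeval c := by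
      ext i
      simp [hc']
    have h2 : Ideal.Quotient.mk (Ideal.span {x}) (aeval c' (F j)) = aeval c (F j) := by
      rw [← h1]
      rfl
    rw [h2, hF]
  choose t ht using fun j => Ideal.mem_span_singleton'.1 (hrel j)
  let ι' := (ι ⊕ κ) ⊕ Unit
  let c₁ : ι' → S := Sum.elim (Sum.elim c' t) (fun _ => x)
  let F₁ : κ → MvPolynomial ι' k := fun j =>
    rename (fun i => Sum.inl (Sum.inl i)) (F j) - X (Sum.inl (Sum.inr j)) * X (Sum.inr ())
  obtain ⟨R, _, _, hR, χ, e, hχ, he, hF₁⟩ := h ι' κ c₁ F₁ (by
    intro j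
    simp only [F₁, map_sub, map_mul, aeval_X, aeval_rename, c₁, Sum.elim_inl, Sum.elim_inr]
    have h3 : ((Sum.elim (Sum.elim c' t) (fun _ : Unit => x) : ι' → S) ∘
        fun i : ι => (Sum.inl (Sum.inl i) : ι')) = c' := rfl
    rw [h3, ht, sub_self])
  let z : R := e (Sum.inr ())
  have hz : χ z = x := he (Sum.inr ())
  have hzm : z ∈ maximalIdeal R := by
    rw [mem_maximalIdeal, mem_nonunits_iff]
    intro hu
    have h4 : IsUnit x := hz ▸ hu.map χ
    exact hx h4
  have hmap : (maximalIdeal R).map (χ : R →+* S) ≤ maximalIdeal S :=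
    ((local_hom_TFAE (χ : R →+* S)).out 0 2).1 hχ
  have hz2 : z ∉ maximalIdeal R ^ 2 := by
    intro h5
    apply hx2
    rw [← hz]
    have h6 := Ideal.mem_map_of_mem (χ : R →+* S) h5
    rw [Ideal.map_pow] at h6
    exact Ideal.pow_right_mono hmap 2 h6
  obtain ⟨hRz, -⟩ := Groth.Agent.CalgA.RegBasic.quotient_of_notMem_sq z hzm hz2
  have hle : Ideal.span {z} ≤ (Ideal.span {x}).comap χ := by
    rw [Ideal.span_le, Set.singleton_subset_iff, SetLike.mem_coe, Ideal.mem_comap, hz]
    exact Ideal.mem_span_singleton_self x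
  let χ' : (R ⧸ Ideal.span {z}) →ₐ[k] (S ⧸ Ideal.span {x}) :=
    Ideal.quotientMapₐ (Ideal.span {x}) χ hle
  refine ⟨R ⧸ Ideal.span {z}, inferInstance, inferInstance, hRz, χ',
    fun i => Ideal.Quotient.mk _ (e (Sum.inl (Sum.inl i))), ?_, ?_, ?_⟩
  · have h7 : (maximalIdeal (R ⧸ Ideal.span {z})).map (χ' : _ →+* _) ≤ maximalIdeal (S ⧸ Ideal.span {x}) := by
      rw [← map_maximalIdeal_of_surjective (Ideal.Quotient.mk (Ideal.span {z})) Ideal.Quotient.mk_surjective,
        ← map_maximalIdeal_of_surjective (Ideal.Quotient.mk (Ideal.span {x})) Ideal.Quotient.mk_surjective,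
        Ideal.map_map]
      have h8 : (χ' : _ →+* _).comp (Ideal.Quotient.mk (Ideal.span {z})) =
          (Ideal.Quotient.mk (Ideal.span {x})).comp (χ : R →+* S) := rfl
      rw [h8, ← Ideal.map_map]
      exact Ideal.map_mono hmap
    exact ((local_hom_TFAE (χ' : _ →+* _)).out 0 2).2 h7
  · intro i
    change Ideal.Quotient.mk _ (χ (e (Sum.inl (Sum.inl i)))) = c i
    rw [he]
    exact hc' i
  · intro j
    have h9 := hF₁ j
    simp only [F₁, map_sub, map_mul, aeval_X, aeval_rename] at h9
    have h10 : (Ideal.Quotient.mkₐ k (Ideal.span {z})).comp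
        (aeval (e ∘ fun i => Sum.inl (Sum.inl i))) =
        aeval (fun i => Ideal.Quotient.mk (Ideal.span {z}) (e (Sum.inl (Sum.inl i)))) := by
      ext i
      simp
    rw [← h10]
    change Ideal.Quotient.mk (Ideal.span {z}) (aeval (e ∘ fun i => Sum.inl (Sum.inl i)) (F j)) = 0
    rw [Ideal.Quotient.eq_zero_iff_mem, sub_eq_zero.1 h9]
    exact Ideal.mul_mem_left _ _ (Ideal.mem_span_singleton_self z)

theorem Fac.isDomain {S : Type u} [CommRing S] [IsLocalRing S] [Algebra k S] (h : Fac k S) :
    IsDomain S := by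
  have hnz : NoZeroDivisors S := by
    refine ⟨fun {a b} hab => ?_⟩
    obtain ⟨R, _, _, hR, χ, e, -, he, hF⟩ := h (Fin 2) Unit ![a, b] (fun _ => X 0 * X 1) (by
      intro j
      simpa using hab)
    have hd : IsDomain R := Groth.Agent.CalgA.RegBasic.isDomain R
    have h1 : e 0 * e 1 = 0 := by simpa using hF ()
    rcases mul_eq_zero.1 h1 with h2 | h2
    · left
      have := he 0
      rw [h2, map_zero] at this
      exact this.symm
    · right
      have := he 1
      rw [h2, map_zero] at this
      exact this.symm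
  exact NoZeroDivisors.to_isDomain S

theorem Fac.isRegularLocalRing_aux (n : ℕ) : ∀ (S : Type u) [CommRing S] [IsLocalRing S]
    [IsNoetherianRing S] [Algebra k S] (_ : Fac k S), (maximalIdeal S).spanFinrank = n →
    IsRegularLocalRing S := by
  induction n using Nat.strong_induction_on with
  | _ n ih =>
    intro S _ _ _ _ h hn
    have hdom := h.isDomain
    by_cases h0 : maximalIdeal S ≤ maximalIdeal S ^ 2
    · have hbot : maximalIdeal S = ⊥ := by
        refine Submodule.eq_bot_of_le_smul_of_le_jacobson_bot (maximalIdeal S) (maximalIdeal S)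
          (maximalIdeal S).fg_of_isNoetherianRing ?_ (maximalIdeal_le_jacobson _)
        rw [smul_eq_mul, ← pow_two]
        exact h0
      apply IsRegularLocalRing.of_spanFinrank_maximalIdeal_le
      rw [hbot]
      simpa using ringKrullDim_nonneg_of_nontrivial (R := S)
    · obtain ⟨x, hx, hx2⟩ := Set.not_subset.1 h0
      have hne : Ideal.span {x} ≠ ⊤ := by
        rw [Ideal.ne_top_iff_one]
        intro h1
        have : (1 : S) ∈ maximalIdeal S :=
          ((Ideal.span_singleton_le_iff_mem _).2 hx) h1
        exact (maximalIdeal.isMaximal S).ne_top ((Ideal.eq_top_iff_one _).2 this)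
      have hloc := Groth.Agent.CalgA.RegBasic.isLocalRing_quotient (Ideal.span {x}) hne
      have h1 := Groth.Agent.CalgA.RegBasic.spanFinrank_quotient_add_one_le x hx hx2
      have h2 : IsRegularLocalRing (S ⧸ Ideal.span {x}) :=
        ih _ (by omega) (S ⧸ Ideal.span {x}) (h.quotient x hx hx2) rfl
      refine Groth.Agent.CalgA.RegBasic.of_quotient x hx (mem_nonZeroDivisors_of_ne_zero ?_)
      rintro rfl
      exact hx2 (zero_mem _)

/-- A Noetherian local ring which is locally a "filtered colimit" of regular local rings is regular. -/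
theorem Fac.isRegularLocalRing {S : Type u} [CommRing S] [IsLocalRing S] [IsNoetherianRing S]
    [Algebra k S] (h : Fac k S) : IsRegularLocalRing S :=
  Fac.isRegularLocalRing_aux _ S h rfl

end K71.ColimRegular
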