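import Mathlib.RingTheory.FinitePresentation
import Mathlib.Order.Directed

/-!
# Factoring maps from finitely presented algebras through directed colimits (elementwise form)

* `exists_factor`: an algebra map from a finitely presented algebra to an (elementwise) directed colimit
  factors through a stage.
-/

set_option autoImplicit false
universe u v w

namespace K71.FPFactor

theorem exists_factor {R : Type*} [CommRing R] {ι : Type*} [Preorder ι] [IsDirectedOrder ι]
    [Nonempty ι] {G : ι → Type*} [∀ i, CommRing (G i)] [∀ i, Algebra R (G i)]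
    (f : ∀ i j : ι, i ≤ j → (G i →ₐ[R] G j))
    (hf : ∀ (i j k : ι) (hij : i ≤ j) (hjk : j ≤ k) (x : G i),
      f j k hjk (f i j hij x) = f i k (hij.trans hjk) x)
    {C : Type*} [CommRing C] [Algebra R C] (g : ∀ i, G i →ₐ[R] C)
    (hg : ∀ (i j : ι) (hij : i ≤ j) (x : G i), g j (f i j hij x) = g i x)
    (hsurj : ∀ x : C, ∃ i y, g i y = x)
    (hker : ∀ i x, g i x = 0 → ∃ (j : ι) (h : i ≤ j), f i j h x = 0)
    (P : Type*) [CommRing P] [Algebra R P] [Algebra.FinitePresentation R P] (φ : P →ₐ[R] C) :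
    ∃ (i : ι) (ψ : P →ₐ[R] G i), (g i).comp ψ = φ := by
  classical
  obtain ⟨n, q, hq, T, hT⟩ := Algebra.FinitePresentation.out (R := R) (A := P)
  -- a stage where the generators live
  choose a b hab using fun i : Fin n => hsurj (φ (q (MvPolynomial.X i)))
  obtain ⟨i₀, hi₀⟩ := (Finset.univ.image a).exists_le
  have hi₁ : ∀ i, a i ≤ i₀ := fun i => hi₀ (a i) (by simp)
  let c : Fin n → G i₀ := fun i => f _ _ (hi₁ i) (b i)
  have hc : ∀ i, g i₀ (c i) = φ (q (MvPolynomial.X i)) := fun i => by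
    rw [hg, hab]
  have hc2 : ∀ t : MvPolynomial (Fin n) R, g i₀ (MvPolynomial.aeval c t) = φ (q t) := by
    intro t
    have : (g i₀).comp (MvPolynomial.aeval c) = φ.comp q := by
      ext i
      simp [hc]
    exact DFunLike.congr_fun this t
  -- a stage where the relations hold
  have hT0 : ∀ t ∈ T, q t = 0 := fun t ht => by
    have : t ∈ RingHom.ker q.toRingHom := by
      rw [← hT]
      exact Ideal.subset_span ht
    exact this
  have h1 : ∀ t : T, ∃ (j : ι) (h : i₀ ≤ j), f i₀ j h (MvPolynomial.aeval c (t : MvPolynomial (Fin n) R)) = 0 :=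
    fun t => hker i₀ _ (by rw [hc2, hT0 _ t.2, map_zero])
  choose j hj hj0 using h1
  obtain ⟨k, hk⟩ := (insert i₀ (T.attach.image j)).exists_le
  have hk0 : i₀ ≤ k := hk i₀ (by simp)
  have hk1 : ∀ t : T, j t ≤ k := fun t => hk _ (by
    refine Finset.mem_insert_of_mem (Finset.mem_image_of_mem _ (Finset.mem_attach _ _)))
  let p : MvPolynomial (Fin n) R →ₐ[R] G k := (f i₀ k hk0).comp (MvPolynomial.aeval c)
  have hp : ∀ x ∈ RingHom.ker q.toRingHom, p x = 0 := by
    intro x hx
    rw [← hT] at hx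
    have : Ideal.span (T : Set (MvPolynomial (Fin n) R)) ≤ RingHom.ker p.toRingHom := by
      rw [Ideal.span_le]
      intro t ht
      change f i₀ k hk0 (MvPolynomial.aeval c t) = 0
      rw [← hf i₀ (j ⟨t, ht⟩) k (hj _) (hk1 _), hj0, map_zero]
    exact this hx
  let e := Ideal.quotientKerAlgEquivOfSurjective (f := q) hq
  let ψ₀ : (MvPolynomial (Fin n) R ⧸ RingHom.ker q) →ₐ[R] G k := Ideal.Quotient.liftₐ _ p hp
  refine ⟨k, ψ₀.comp e.symm.toAlgHom, ?_⟩
  ext x
  obtain ⟨t, rfl⟩ := hq x
  have he : e.symm (q t) = Ideal.Quotient.mk _ t := by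
    rw [AlgEquiv.symm_apply_eq]
    rfl
  change g k (ψ₀ (e.symm (q t))) = φ (q t)
  rw [he]
  change g k (f i₀ k hk0 (MvPolynomial.aeval c t)) = φ (q t)
  rw [hg, hc2]

end K71.FPFactor
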