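import Groth.Prelude.Def_EGA4b
import Groth.Agent.CalgB.RegHom7
import Groth.Agent.CalgB.RegHom5
import Groth.Agent.Ega4A.PFibre
import Groth.Agent.S0598
import Groth.Agent.S0599

/-!
# Permanence of a single geometrically regular formal fibre

* `isRegularRing_tensor_cpl`: for `A → B` essentially of finite type between Noetherian local rings, and
  a field `K` essentially of finite type over `B`: if `K ⊗_A A^` is regular, then `K ⊗_B B^` is regular.
* `isRegularHom_cpl_of_essFiniteType`: regularity of the completion map ascends.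
-/

set_option autoImplicit false
universe u

open TensorProduct EGA4 IsLocalRing
open Groth.Agent.CalgB.RegHom1 Groth.Agent.CalgB.RegHom2 Groth.Agent.CalgB.RegHom4
  Groth.Agent.CalgB.RegHom5 Groth.Agent.CalgB.RegHom6 Groth.Agent.CalgB.RegHom7

namespace K71.FormalFibre

theorem tensor_comp (K : Type u) [Field K] {R S T : Type u} [CommRing R] [CommRing S] [CommRing T]
    [Algebra R S] [Algebra S T] [Algebra R T] [IsScalarTower R S T] [Module.Flat S T]
    [IsNoetherianRing T] [Algebra R K] [Algebra.EssFiniteType R K]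
    (h1 : IsRegularRing (K ⊗[R] S)) (h2 : FieldFib S T) : IsRegularRing (K ⊗[R] T) := by
  have hA : IsRegularRing (S ⊗[R] K) :=
    IsRegularRing.of_ringEquiv (Algebra.TensorProduct.comm R K S).toRingEquiv
  let e1 : (S ⊗[R] K) ⊗[S] T ≃+* K ⊗[R] T :=
    ((Algebra.TensorProduct.comm S (S ⊗[R] K) T).toRingEquiv.trans
      (Algebra.TensorProduct.cancelBaseChange R S S T K).toRingEquiv).trans
      (Algebra.TensorProduct.comm R T K).toRingEquiv
  have hNT : IsNoetherianRing ((S ⊗[R] K) ⊗[S] T) := by
    have := isNoetherianRing_tensor R K T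
    exact isNoetherianRing_of_ringEquiv _ e1.symm
  have h3 : IsRegularRing ((S ⊗[R] K) ⊗[S] T) := by
    apply isRegularRing_of_flat_of_fiber (A := S ⊗[R] K)
    intro p hp
    have : Algebra.EssFiniteType S p.ResidueField :=
      Algebra.EssFiniteType.comp S (S ⊗[R] K) p.ResidueField
    have h4 := h2 p.ResidueField this
    exact IsRegularRing.of_ringEquiv
      (Algebra.TensorProduct.cancelBaseChange S (S ⊗[R] K) p.ResidueField p.ResidueField T).symm.toRingEquiv
  exact IsRegularRing.of_ringEquiv e1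

theorem tensor_desc (K : Type u) [Field K] {R S T : Type u} [CommRing R] [CommRing S] [CommRing T]
    [Algebra R S] [Algebra S T] [Algebra R T] [IsScalarTower R S T] [Module.FaithfullyFlat S T]
    [Algebra R K] (h1 : IsRegularRing (K ⊗[R] T)) : IsRegularRing (K ⊗[R] S) := by
  let e1 : (S ⊗[R] K) ⊗[S] T ≃+* K ⊗[R] T :=
    ((Algebra.TensorProduct.comm S (S ⊗[R] K) T).toRingEquiv.trans
      (Algebra.TensorProduct.cancelBaseChange R S S T K).toRingEquiv).trans
      (Algebra.TensorProduct.comm R T K).toRingEquiv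
  have h2 : IsRegularRing ((S ⊗[R] K) ⊗[S] T) := IsRegularRing.of_ringEquiv e1.symm
  have h3 : IsRegularRing (S ⊗[R] K) :=
    isRegularRing_of_faithfullyFlat (S ⊗[R] K) ((S ⊗[R] K) ⊗[S] T)
  exact IsRegularRing.of_ringEquiv (Algebra.TensorProduct.comm R S K).toRingEquiv

/-- main step: `B → T` flat local, with `T` having regular completion map. -/
theorem tensor_cpl_of_flat_local (K : Type u) [Field K] {B T : Type u} [CommRing B] [CommRing T]
    [IsNoetherianRing B] [IsNoetherianRing T] [IsLocalRing B] [IsLocalRing T] [Algebra B T]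
    [IsLocalHom (algebraMap B T)] [Module.Flat B T] [Algebra B K] [Algebra.EssFiniteType B K]
    (h : IsRegularRing (K ⊗[B] T))
    (hT : CAlg.IsRegularHom T (Cpl T)) : IsRegularRing (K ⊗[B] Cpl B) := by
  have hB := Groth.Agent.Ega4A.CplQuot.isNoetherianRing_cpl B
  have hT' := Groth.Agent.Ega4A.CplQuot.isNoetherianRing_cpl T
  have hlocal := Groth.Agent.Ega4A.CplFlat.isLocalHom_cplMap B T
  have hflat := Groth.Agent.Ega4A.CplFlat.flat_cplMap B T
  let _ : Algebra (Cpl B) (Cpl T) := (Groth.Agent.Ega4A.CplFlat.cplMap B T).toAlgebra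
  have h3 : IsLocalHom (algebraMap (Cpl B) (Cpl T)) := hlocal
  have h3' : Module.Flat (Cpl B) (Cpl T) := hflat
  have hff : Module.FaithfullyFlat (Cpl B) (Cpl T) := Module.FaithfullyFlat.of_flat_of_isLocalHom
  have h4 : IsScalarTower B T (Cpl T) := IsScalarTower.of_algebraMap_eq fun x => rfl
  have h6 : IsScalarTower B (Cpl B) (Cpl T) :=
    IsScalarTower.of_algebraMap_eq fun x =>
      (Groth.Agent.Ega4A.CplFlat.cplMap_algebraMap B T x).symm
  have hTr := isRegularHom_iff.1 hT
  have hTf : Module.Flat T (Cpl T) := hTr.1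
  have h5 : IsRegularRing (K ⊗[B] Cpl T) := tensor_comp K h hTr.2
  exact tensor_desc K (S := Cpl B) h5

theorem isRegularRing_tensor_cpl {A B : Type u} [CommRing A] [CommRing B] [IsNoetherianRing A]
    [IsNoetherianRing B] [IsLocalRing A] [IsLocalRing B] [Algebra A B]
    [Algebra.EssFiniteType A B] (K : Type u) [Field K] [Algebra A K] [Algebra B K]
    [IsScalarTower A B K] [Algebra.EssFiniteType B K]
    (h : IsRegularRing (K ⊗[A] Cpl A)) : IsRegularRing (K ⊗[B] Cpl B) := by
  have hA := Groth.Agent.Ega4A.CplQuot.isNoetherianRing_cpl A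
  have hAff := Groth.Agent.Ega4A.CplQuot.faithfullyFlat_cpl A
  have hG : ∀ (C : Type u) [CommRing C] [Algebra (Cpl A) C], Algebra.FiniteType (Cpl A) C →
      CAlg.IsGRing C := by
    intro C _ _ hC
    have h2 : CAlg.IsGRing (EGA4.Cpl A) := Groth.Agent.S0598.result (EGA4.Cpl A)
    exact Groth.Agent.S0599.result (EGA4.Cpl A) h2 C
  have h1 : IsRegularRing (K ⊗[B] (B ⊗[A] Cpl A)) := IsRegularRing.of_ringEquiv
    (Algebra.TensorProduct.cancelBaseChange A B K K (Cpl A)).symm.toRingEquiv
  have hN : IsNoetherianRing (B ⊗[A] Cpl A) := isNoetherianRing_tensor A B (Cpl A)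
  have hff : Module.FaithfullyFlat B (B ⊗[A] Cpl A) := inferInstance
  obtain ⟨Q, hQ, hQp⟩ := Ideal.exists_isPrime_liesOver_of_faithfullyFlat
    (B := B ⊗[A] Cpl A) (maximalIdeal B)
  let T := Localization.AtPrime Q
  have hTN : IsNoetherianRing T := inferInstance
  have h2 : IsRegularRing (K ⊗[B] T) :=
    isRegularRing_tensor_localization_right (R := B) K (A := B ⊗[A] Cpl A) T Q.primeCompl
  have hfl : Module.Flat B T := Module.Flat.trans B (B ⊗[A] Cpl A) T
  have hlocal : IsLocalHom (algebraMap B T) := by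
    constructor
    intro b hb
    by_contra hcon
    have hbm : b ∈ maximalIdeal B := hcon
    rw [hQp.over] at hbm
    have h3 : algebraMap B (B ⊗[A] Cpl A) b ∈ Q := hbm
    have h4 : algebraMap (B ⊗[A] Cpl A) T (algebraMap B (B ⊗[A] Cpl A) b) ∈ maximalIdeal T :=
      (IsLocalization.AtPrime.to_map_mem_maximal_iff T Q _).mpr h3
    rw [← IsScalarTower.algebraMap_apply B (B ⊗[A] Cpl A) T] at h4
    exact h4 hb
  refine tensor_cpl_of_flat_local (B := B) (T := T) K h2 ?_
  -- `T` is a local ring of `Cpl A ⊗ B`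
  let e : (Cpl A ⊗[A] B) ≃+* (B ⊗[A] Cpl A) := (Algebra.TensorProduct.comm A (Cpl A) B).toRingEquiv
  let Q' : Ideal (Cpl A ⊗[A] B) := Q.comap (e : (Cpl A ⊗[A] B) →+* (B ⊗[A] Cpl A))
  have hQ' : Q'.IsPrime := Ideal.comap_isPrime _ _
  have h5 := Groth.Agent.Ega4A.PFibre.isRegularHom_cpl_of_essFiniteType (R := Cpl A)
    (S := Cpl A ⊗[A] B) hG Q'
  have hN' : IsNoetherianRing (Cpl A ⊗[A] B) := isNoetherianRing_of_ringEquiv _ e.symm
  let e' : Localization.AtPrime Q' ≃+* Localization.AtPrime Q :=
    Localization.localRingEquiv Q' Q e rfl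
  exact Groth.Agent.Ega4A.PFibre.isRegularHom_cpl_of_ringEquiv e' h5

/-- Regularity of the completion map ascends along essentially of finite type local maps. -/
theorem isRegularHom_cpl {A B : Type u} [CommRing A] [CommRing B] [IsNoetherianRing A]
    [IsNoetherianRing B] [IsLocalRing A] [IsLocalRing B] [Algebra A B]
    [Algebra.EssFiniteType A B] (h : CAlg.IsRegularHom A (Cpl A)) : CAlg.IsRegularHom B (Cpl B) := by
  rw [isRegularHom_iff] at h ⊢
  have hB := Groth.Agent.Ega4A.CplQuot.faithfullyFlat_cpl B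
  refine ⟨inferInstance, ?_⟩
  intro K _ _ hK
  let _ : Algebra A K := Algebra.compHom K (algebraMap A B)
  have : IsScalarTower A B K := .of_algebraMap_eq fun x ↦ rfl
  exact isRegularRing_tensor_cpl (A := A) K (h.2 K (Algebra.EssFiniteType.comp A B K))

/-- A single formal fibre: geometric regularity ascends along essentially of finite type maps. -/
theorem isGeometricallyRegular_formalFibre {A B : Type u} [CommRing A] [CommRing B]
    [IsNoetherianRing A] [IsNoetherianRing B] [IsLocalRing A] [IsLocalRing B] [Algebra A B]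
    [Algebra.EssFiniteType A B] (Q' : Ideal B) [Q'.IsPrime] (Q : Ideal A) [Q.IsPrime]
    (hQ : Q = Q'.comap (algebraMap A B))
    (h : CAlg.IsGeometricallyRegular Q.ResidueField (formalFibre A Q)) :
    CAlg.IsGeometricallyRegular Q'.ResidueField (formalFibre B Q') := by
  intro k' _ _ hk'
  let _ : Algebra B k' := Algebra.compHom k' (algebraMap B Q'.ResidueField)
  have : IsScalarTower B Q'.ResidueField k' := .of_algebraMap_eq fun x ↦ rfl
  let _ : Algebra A k' := Algebra.compHom k' (algebraMap A B)
  have : IsScalarTower A B k' := .of_algebraMap_eq fun x ↦ rfl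
  have : Algebra.EssFiniteType B k' := Algebra.EssFiniteType.comp B Q'.ResidueField k'
  have : Algebra.EssFiniteType A k' := Algebra.EssFiniteType.comp A B k'
  have h0 : ∀ x : A, algebraMap A k' x = 0 ↔ x ∈ Q := by
    intro x
    rw [hQ, Ideal.mem_comap, ← Ideal.algebraMap_residueField_eq_zero (I := Q'),
      IsScalarTower.algebraMap_apply A B k', IsScalarTower.algebraMap_apply B Q'.ResidueField k',
      map_eq_zero]
  let f : Q.ResidueField →ₐ[A] k' := Ideal.ResidueField.liftₐ Q (Algebra.ofId A k')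
    (by
      intro x hx
      exact (h0 x).2 hx)
    (by
      intro x hx
      have hx' : algebraMap A k' x ≠ 0 := fun h1 ↦ hx ((h0 x).1 h1)
      exact (isUnit_iff_ne_zero.mpr hx'))
  let _ : Algebra Q.ResidueField k' := f.toRingHom.toAlgebra
  have : IsScalarTower A Q.ResidueField k' := .of_algebraMap_eq fun x ↦ (f.commutes x).symm
  have : Algebra.EssFiniteType Q.ResidueField k' := Algebra.EssFiniteType.of_comp A _ _
  have h1 : IsRegularRing (k' ⊗[Q.ResidueField] (Q.ResidueField ⊗[A] Cpl A)) :=
    isRegularRing_tensor_of_essFiniteType k' h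
  have h2 : IsRegularRing (k' ⊗[A] Cpl A) := IsRegularRing.of_ringEquiv
    (Algebra.TensorProduct.cancelBaseChange A Q.ResidueField k' k' (Cpl A)).toRingEquiv
  have h3 : IsRegularRing (k' ⊗[B] Cpl B) := isRegularRing_tensor_cpl (A := A) k' h2
  exact IsRegularRing.of_ringEquiv
    (Algebra.TensorProduct.cancelBaseChange B Q'.ResidueField k' k' (Cpl B)).symm.toRingEquiv

end K71.FormalFibre
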