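import Groth.Agent.S2792
import Groth.Agent.Hensel.Exist
import Mathlib.Algebra.Colimit.Ring

/-!
# Henselizations commute with directed colimits

* `henselianLocalRing_directLimit`: directed colimits of henselian local rings under local maps.
* `exists_hensel_system`: if the henselian local ring `A` is the colimit of a directed system of local
  rings `L i` and local maps, then it is the colimit of the henselizations of the `L i`.
-/

set_option autoImplicit false
universe u v

open IsLocalRing

namespace K71.HensColim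

theorem henselianLocalRing_directLimit {ι : Type v} [Preorder ι] [Nonempty ι] [IsDirected ι (· ≤ ·)]
    (G : ι → Type u) [∀ i, CommRing (G i)] [∀ i, HenselianLocalRing (G i)]
    (f : ∀ i j, i ≤ j → G i →+* G j) [DirectedSystem G (fun i j h => f i j h)]
    (hf : ∀ i j (h : i ≤ j), IsLocalHom (f i j h)) :
    HenselianLocalRing (Ring.DirectLimit G (fun i j h => f i j h)) := by
  have hloc : IsLocalRing (Ring.DirectLimit G (fun i j h => f i j h)) :=
    Groth.Agent.S2792.isLocalRing_directLimit G f
  have hof := Groth.Agent.S2792.isLocalHom_of G f hf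
  refine ⟨fun p hp a₀ h1 h2 => ?_⟩
  obtain ⟨i, q, hq, rfl⟩ := Groth.Agent.S2792.exists_monic_lift G f p hp
  obtain ⟨j, a, rfl⟩ := Ring.DirectLimit.exists_of a₀
  obtain ⟨k, hik, hjk⟩ := exists_ge_ge i j
  set ok := Ring.DirectLimit.of G (fun i j h => f i j h) k with hok
  have e1 : q.map (Ring.DirectLimit.of G (fun i j h => f i j h) i) = (q.map (f i k hik)).map ok := by
    rw [Polynomial.map_map]
    congr 1
    ext x
    simp [hok]
  have e2 : Ring.DirectLimit.of G (fun i j h => f i j h) j a = ok (f j k hjk a) := by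
    simp [hok]
  rw [e1, e2] at h1 h2 ⊢
  rw [Polynomial.eval_map_apply] at h1
  rw [Polynomial.derivative_map, Polynomial.eval_map_apply] at h2
  have h1' : (q.map (f i k hik)).eval (f j k hjk a) ∈ IsLocalRing.maximalIdeal (G k) := by
    rw [IsLocalRing.mem_maximalIdeal, mem_nonunits_iff]
    intro hu
    exact (IsLocalRing.mem_maximalIdeal _).mp h1 (hu.map ok)
  have h2' : IsUnit ((q.map (f i k hik)).derivative.eval (f j k hjk a)) :=
    (isUnit_map_iff ok _).mp h2
  obtain ⟨b, hb1, hb2⟩ := HenselianLocalRing.is_henselian _ (hq.map (f i k hik)) _ h1' h2'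
  refine ⟨ok b, ?_, ?_⟩
  · rw [Polynomial.IsRoot.def, Polynomial.eval_map_apply, hb1.eq_zero, map_zero]
  · rw [← map_sub]
    rw [IsLocalRing.mem_maximalIdeal, mem_nonunits_iff]
    intro hu
    exact (IsLocalRing.mem_maximalIdeal _).mp hb2 ((isUnit_map_iff ok _).mp hu)

/-- A ring map out of a henselization which is local on the base is local. -/
theorem isLocalHom_of_comp {R S T : Type u} [CommRing R] [IsLocalRing R] [CommRing S] [IsLocalRing S]
    [Algebra R S] [IsLocalHom (algebraMap R S)] [Hensel.IsHenselization R S] [CommRing T]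
    [IsLocalRing T] (g : S →+* T) (h : IsLocalHom (g.comp (algebraMap R S))) : IsLocalHom g := by
  have h1 : (maximalIdeal R).map (g.comp (algebraMap R S)) ≤ maximalIdeal T :=
    ((local_hom_TFAE (g.comp (algebraMap R S))).out 0 2).1 h
  rw [← Ideal.map_map, Groth.Agent.Hensel.Exist.map_maximalIdeal_of_isHenselization] at h1
  exact ((local_hom_TFAE g).out 0 2).2 h1

theorem exists_hensel_system (A : Type u) [CommRing A] [HenselianLocalRing A] (ι : Type u)
    [Preorder ι] [IsDirectedOrder ι] [Nonempty ι] (L : ι → Type u) [∀ i, CommRing (L i)]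
    [∀ i, IsLocalRing (L i)] (l : ∀ i j : ι, i ≤ j → (L i →+* L j))
    [DirectedSystem L (fun i j h => l i j h)] (hl : ∀ (i j : ι) (h : i ≤ j), IsLocalHom (l i j h))
    (ρ : ∀ i, L i →+* A) (hρ : ∀ i, IsLocalHom (ρ i))
    (hρl : ∀ (i j : ι) (h : i ≤ j) (x : L i), ρ j (l i j h x) = ρ i x)
    (hsurj : ∀ a : A, ∃ i x, ρ i x = a) (hker : ∀ i x, ρ i x = 0 → ∃ (j : ι) (h : i ≤ j), l i j h x = 0)
    (H : ι → Type u) [∀ i, CommRing (H i)] [∀ i, IsLocalRing (H i)] [∀ i, Algebra (L i) (H i)]
    [∀ i, IsLocalHom (algebraMap (L i) (H i))] [hH : ∀ i, Hensel.IsHenselization (L i) (H i)] :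
    ∃ (h : ∀ i j : ι, i ≤ j → (H i →+* H j)) (_ : DirectedSystem H (fun i j hij => h i j hij)),
      (∀ (i j : ι) (hij : i ≤ j), IsLocalHom (h i j hij)) ∧ Nonempty (A ≃+* DirectLimit H h) := by
  have hHens : ∀ i, HenselianLocalRing (H i) := fun i =>
    Hensel.IsHenselization.henselian (R := L i)
  have hlocc : ∀ (i j : ι) (hij : i ≤ j),
      IsLocalHom ((algebraMap (L j) (H j)).comp (l i j hij)) := fun i j hij => by
    have := hl i j hij
    exact RingHom.isLocalHom_comp _ _
  have key : ∀ (i j : ι) (hij : i ≤ j), ∃! g : H i →+* H j,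
      g.comp (algebraMap (L i) (H i)) = (algebraMap (L j) (H j)).comp (l i j hij) :=
    fun i j hij => Hensel.IsHenselization.universal (H j) _ (hlocc i j hij)
  choose h hh using fun i j hij => (key i j hij).exists
  have hhx : ∀ (i j : ι) (hij : i ≤ j) (x : L i),
      h i j hij (algebraMap (L i) (H i) x) = algebraMap (L j) (H j) (l i j hij x) :=
    fun i j hij x => congr($(hh i j hij) x)
  have hself : ∀ i, h i i le_rfl = RingHom.id (H i) := by
    intro i
    refine (key i i le_rfl).unique (hh i i le_rfl) ?_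
    ext x
    change algebraMap (L i) (H i) x = algebraMap (L i) (H i) (l i i le_rfl x)
    rw [show l i i le_rfl x = x from DirectedSystem.map_self' (f := fun i j h => l i j h) x]
  have hcomp : ∀ (i j k : ι) (hij : i ≤ j) (hjk : j ≤ k),
      (h j k hjk).comp (h i j hij) = h i k (hij.trans hjk) := by
    intro i j k hij hjk
    refine (key i k (hij.trans hjk)).unique ?_ (hh i k _)
    ext x
    change h j k hjk (h i j hij (algebraMap (L i) (H i) x)) = algebraMap (L k) (H k) (l i k _ x)
    rw [hhx, hhx]
    congr 1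
    exact DirectedSystem.map_map' (f := fun i j h => l i j h) hij hjk x
  have hdir : DirectedSystem H (fun i j hij => h i j hij) :=
    { map_self := fun i x => by
        change h i i le_rfl x = x
        rw [hself]
        rfl
      map_map := fun {k j i} hij hjk x => congr($(hcomp _ _ _ hij hjk) x) }
  have hhl : ∀ (i j : ι) (hij : i ≤ j), IsLocalHom (h i j hij) := by
    intro i j hij
    apply isLocalHom_of_comp (R := L i)
    rw [hh]
    exact hlocc i j hij
  refine ⟨h, hdir, hhl, ?_⟩
  let G := Ring.DirectLimit H (fun i j hij => h i j hij)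
  have hG : HenselianLocalRing G := henselianLocalRing_directLimit H h hhl
  -- maps to `A`
  have keyA : ∀ i, ∃! g : H i →+* A, g.comp (algebraMap (L i) (H i)) = ρ i :=
    fun i => Hensel.IsHenselization.universal A (ρ i) (hρ i)
  choose s hs using fun i => (keyA i).exists
  have hsx : ∀ (i : ι) (x : L i), s i (algebraMap (L i) (H i) x) = ρ i x :=
    fun i x => congr($(hs i) x)
  have hsh : ∀ (i j : ι) (hij : i ≤ j) (x : H i), s j (h i j hij x) = s i x := by
    intro i j hij x
    have h1 : (s j).comp (h i j hij) = s i := by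
      refine (keyA i).unique ?_ (hs i)
      ext y
      change s j (h i j hij (algebraMap (L i) (H i) y)) = ρ i y
      rw [hhx, hsx, hρl]
    exact congr($h1 x)
  let σ : G →+* A := Ring.DirectLimit.lift H (fun i j hij => h i j hij) A s hsh
  have hσ : ∀ (i : ι) (x : H i), σ (Ring.DirectLimit.of H (fun i j hij => h i j hij) i x) = s i x :=
    fun i x => Ring.DirectLimit.lift_of _ _ _ _ _
  -- `A` is the colimit of the `L i`
  let ε : Ring.DirectLimit L (fun i j hij => l i j hij) →+* A :=
    Ring.DirectLimit.lift L (fun i j hij => l i j hij) A ρ hρl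
  have hε : ∀ (i : ι) (x : L i), ε (Ring.DirectLimit.of L (fun i j hij => l i j hij) i x) = ρ i x :=
    fun i x => Ring.DirectLimit.lift_of _ _ _ _ _
  have hεb : Function.Bijective ε := by
    constructor
    · rw [injective_iff_map_eq_zero]
      intro z hz
      obtain ⟨i, x, rfl⟩ := Ring.DirectLimit.exists_of z
      rw [hε] at hz
      obtain ⟨j, hij, hj⟩ := hker i x hz
      rw [← Ring.DirectLimit.of_f hij, hj, map_zero]
    · intro a
      obtain ⟨i, x, rfl⟩ := hsurj a
      exact ⟨_, hε i x⟩
  let e : Ring.DirectLimit L (fun i j hij => l i j hij) ≃+* A := RingEquiv.ofBijective ε hεb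
  let τ₀ : Ring.DirectLimit L (fun i j hij => l i j hij) →+* G :=
    Ring.DirectLimit.map (fun i => algebraMap (L i) (H i)) (fun i j hij => (hh i j hij).symm)
  let τ : A →+* G := τ₀.comp e.symm.toRingHom
  have hτ : ∀ (i : ι) (x : L i), τ (ρ i x) =
      Ring.DirectLimit.of H (fun i j hij => h i j hij) i (algebraMap (L i) (H i) x) := by
    intro i x
    have h1 : e.symm (ρ i x) = Ring.DirectLimit.of L (fun i j hij => l i j hij) i x := by
      rw [RingEquiv.symm_apply_eq]
      exact (hε i x).symm
    change τ₀ (e.symm (ρ i x)) = _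
    rw [h1]
    exact Ring.DirectLimit.map_apply_of _ _ _
  have hστ : σ.comp τ = RingHom.id A := by
    ext a
    obtain ⟨i, x, rfl⟩ := hsurj a
    change σ (τ (ρ i x)) = ρ i x
    rw [hτ, hσ, hsx]
  have hτl : IsLocalHom τ := by
    refine ⟨fun a ha => ?_⟩
    have h1 : σ (τ a) = a := congr($hστ a)
    rw [← h1]
    exact ha.map σ
  have hτσ : τ.comp σ = RingHom.id G := by
    apply Ring.DirectLimit.hom_ext
    intro i
    have hloc2 : IsLocalHom (τ.comp (ρ i)) := by
      have := hρ i
      exact RingHom.isLocalHom_comp _ _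
    refine (Hensel.IsHenselization.universal (R := L i) (S := H i) G (τ.comp (ρ i)) hloc2).unique
      ?_ ?_
    · ext x
      change τ (σ (Ring.DirectLimit.of H (fun i j hij => h i j hij) i (algebraMap (L i) (H i) x))) =
        τ (ρ i x)
      rw [hσ, hsx]
    · ext x
      change Ring.DirectLimit.of H (fun i j hij => h i j hij) i (algebraMap (L i) (H i) x) =
        τ (ρ i x)
      rw [hτ]
  exact ⟨(RingEquiv.ofRingHom τ σ hτσ hστ).trans (Ring.DirectLimit.ringEquiv H h)⟩

end K71.HensColim
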