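import Mathlib.RingTheory.Localization.Away.Basic
import Mathlib.RingTheory.Localization.Away.Lemmas
import Mathlib.RingTheory.Idempotents
import Mathlib.RingTheory.Localization.Ideal
import Mathlib.RingTheory.Finiteness.Ideal

/-!
# Complement of an algebra which is locally (away from `V(I)`) an idempotent localization

Elementwise language: `AwayIdem A f C`: `A_f → C_f` is the localization at an idempotent.
-/

set_option autoImplicit false
universe u

namespace K71.IdemCompl

/-- `C` looks, on `D(f)`, like the localization at the idempotent `e/f^n`: there are `e : A`, `n` with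
`e` mapping to `f ^ n` up to `f`-torsion in `C`, etc. -/
theorem ker_of_isLocalization_away_idem {B D : Type*} [CommRing B] [CommRing D] [Algebra B D] {e : B}
    (he : IsIdempotentElem e) [IsLocalization.Away e D] (x : B) :
    algebraMap B D x = 0 ↔ e * x = 0 := by
  rw [← map_zero (algebraMap B D), IsLocalization.eq_iff_exists (Submonoid.powers e)]
  constructor
  · rintro ⟨⟨_, n, rfl⟩, hn⟩
    simp only [mul_zero] at hn
    cases n with
    | zero =>
      simp only [pow_zero, one_mul] at hn
      rw [hn, mul_zero]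
    | succ n =>
      change e ^ (n + 1) * x = 0 at hn
      rwa [he.pow_succ_eq] at hn
  · intro h
    exact ⟨⟨e, Submonoid.mem_powers e⟩, by simpa using h⟩

theorem surj_of_isLocalization_away_idem {B D : Type*} [CommRing B] [CommRing D] [Algebra B D] {e : B}
    (he : IsIdempotentElem e) [IsLocalization.Away e D] :
    Function.Surjective (algebraMap B D) := by
  intro y
  obtain ⟨x, ⟨_, n, rfl⟩, rfl⟩ := IsLocalization.exists_mk'_eq (Submonoid.powers e) y
  refine ⟨x, ?_⟩
  rw [IsLocalization.eq_mk'_iff_mul_eq]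
  have h1 : algebraMap B D e = 1 := by
    have h2 : algebraMap B D (1 - e) = 0 := by
      rw [ker_of_isLocalization_away_idem he, mul_sub, mul_one, he.eq, sub_self]
    rw [map_sub, map_one, sub_eq_zero] at h2
    exact h2.symm
  change algebraMap B D x * algebraMap B D (e ^ n) = _
  rw [map_pow, h1, one_pow, mul_one]

theorem map_eq_one {B D : Type*} [CommRing B] [CommRing D] [Algebra B D] {e : B}
    (he : IsIdempotentElem e) [IsLocalization.Away e D] : algebraMap B D e = 1 := by
  have h2 : algebraMap B D (1 - e) = 0 := by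
    rw [ker_of_isLocalization_away_idem he, mul_sub, mul_one, he.eq, sub_self]
  rw [map_sub, map_one, sub_eq_zero] at h2
  exact h2.symm

section

variable {A : Type u} [CommRing A] (C : Type u) [CommRing C] [Algebra A C]

/-- `x` kills the kernel of `A_f → C_f`, up to `f`-torsion. -/
def P (f : A) : Ideal A where
  carrier := {x | ∀ (y : A) (n : ℕ), algebraMap A C (f ^ n * y) = 0 → ∃ m : ℕ, f ^ m * (x * y) = 0}
  zero_mem' := fun y n _ => ⟨0, by simp⟩
  add_mem' := by
    intro a b ha hb y n hy
    obtain ⟨m₁, h₁⟩ := ha y n hy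
    obtain ⟨m₂, h₂⟩ := hb y n hy
    refine ⟨m₁ + m₂, ?_⟩
    calc f ^ (m₁ + m₂) * ((a + b) * y) = f ^ m₂ * (f ^ m₁ * (a * y)) + f ^ m₁ * (f ^ m₂ * (b * y)) := by
          ring
      _ = 0 := by rw [h₁, h₂]; ring
  smul_mem' := by
    intro c x hx y n hy
    obtain ⟨m, h⟩ := hx y n hy
    refine ⟨m, ?_⟩
    calc f ^ m * ((c • x) * y) = c * (f ^ m * (x * y)) := by rw [smul_eq_mul]; ring
      _ = 0 := by rw [h, mul_zero]

variable {C}

theorem algebraMap_away_eq_zero_iff (f : A) (B : Type*) [CommRing B] [Algebra A B]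
    [IsLocalization.Away f B] (x : A) : algebraMap A B x = 0 ↔ ∃ n : ℕ, f ^ n * x = 0 := by
  rw [← map_zero (algebraMap A B), IsLocalization.eq_iff_exists (Submonoid.powers f)]
  constructor
  · rintro ⟨⟨_, n, rfl⟩, hn⟩
    exact ⟨n, by simpa using hn⟩
  · rintro ⟨n, hn⟩
    exact ⟨⟨f ^ n, n, rfl⟩, by simpa using hn⟩

theorem algebraMap_loc_eq_zero_iff (f : A) (F : Type*) [CommRing F] [Algebra C F]
    [IsLocalization (Algebra.algebraMapSubmonoid C (Submonoid.powers f)) F] (x : C) :
    algebraMap C F x = 0 ↔ ∃ n : ℕ, algebraMap A C (f ^ n) * x = 0 := by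
  rw [← map_zero (algebraMap C F),
    IsLocalization.eq_iff_exists (Algebra.algebraMapSubmonoid C (Submonoid.powers f))]
  constructor
  · rintro ⟨⟨_, _, ⟨n, rfl⟩, rfl⟩, hn⟩
    exact ⟨n, by simpa using hn⟩
  · rintro ⟨n, hn⟩
    exact ⟨⟨algebraMap A C (f ^ n), f ^ n, ⟨n, rfl⟩, rfl⟩, by simpa using hn⟩

variable (f : A) {B : Type*} (F : Type*) [CommRing B] [Algebra A B] [IsLocalization.Away f B]
  [CommRing F] [Algebra C F] [IsLocalization (Algebra.algebraMapSubmonoid C (Submonoid.powers f)) F]
  [Algebra B F] [Algebra A F] [IsScalarTower A B F] [IsScalarTower A C F]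
  {e : B} (he : IsIdempotentElem e) [IsLocalization.Away e F]

include F he

theorem mem_P_iff (x : A) : x ∈ P C f ↔ (1 - e) * algebraMap A B x = 0 := by
  constructor
  · intro hx
    obtain ⟨y, ⟨_, n, rfl⟩, hy⟩ := IsLocalization.exists_mk'_eq (Submonoid.powers f) (1 - e)
    have h1 : algebraMap A F y = 0 := by
      have h2 : algebraMap B F (1 - e) = 0 := by
        rw [map_sub, map_one, map_eq_one he, sub_self]
      rw [← hy] at h2
      rw [IsScalarTower.algebraMap_apply A B F, ← IsLocalization.mk'_spec B y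
        (⟨f ^ n, n, rfl⟩ : Submonoid.powers f), map_mul, h2, zero_mul]
    rw [IsScalarTower.algebraMap_apply A C F, algebraMap_loc_eq_zero_iff f] at h1
    obtain ⟨k, hk⟩ := h1
    obtain ⟨m, hm⟩ := hx y k (by rw [map_mul]; exact hk)
    have h3 : algebraMap A B (x * y) = 0 := (algebraMap_away_eq_zero_iff f B _).2 ⟨m, hm⟩
    rw [← hy, mul_comm, IsLocalization.mul_mk'_eq_mk'_of_mul, IsLocalization.mk'_eq_zero_iff]
    obtain ⟨m', hm'⟩ := (algebraMap_away_eq_zero_iff f B _).1 h3
    exact ⟨⟨f ^ m', m', rfl⟩, hm'⟩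
  · intro hx y n hy
    have h1 : algebraMap B F (algebraMap A B y) = 0 := by
      rw [← IsScalarTower.algebraMap_apply, IsScalarTower.algebraMap_apply A C F,
        algebraMap_loc_eq_zero_iff f]
      exact ⟨n, by rw [← map_mul]; exact hy⟩
    rw [ker_of_isLocalization_away_idem he] at h1
    rw [← algebraMap_away_eq_zero_iff f B]
    calc algebraMap A B (x * y) = algebraMap A B y * ((1 - e) * algebraMap A B x) +
          (e * algebraMap A B y) * algebraMap A B x := by rw [map_mul]; ring
      _ = 0 := by rw [hx, h1]; ring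

theorem pow_mul_mem_P (g : A) (x : A) (hx : x ∈ P C g) : ∃ m : ℕ, g ^ m * x ∈ P C f := by
  obtain ⟨y, ⟨_, n, rfl⟩, hy⟩ := IsLocalization.exists_mk'_eq (Submonoid.powers f) (1 - e)
  have h1 : algebraMap A F y = 0 := by
    have h2 : algebraMap B F (1 - e) = 0 := by
      rw [map_sub, map_one, map_eq_one he, sub_self]
    rw [← hy] at h2
    rw [IsScalarTower.algebraMap_apply A B F, ← IsLocalization.mk'_spec B y
      (⟨f ^ n, n, rfl⟩ : Submonoid.powers f), map_mul, h2, zero_mul]
  rw [IsScalarTower.algebraMap_apply A C F, algebraMap_loc_eq_zero_iff f] at h1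
  obtain ⟨k, hk⟩ := h1
  obtain ⟨m, hm⟩ := hx (f ^ k * y) 0 (by rw [pow_zero, one_mul, map_mul]; exact hk)
  refine ⟨m, ?_⟩
  rw [mem_P_iff f F he]
  rw [← hy, mul_comm, IsLocalization.mul_mk'_eq_mk'_of_mul, IsLocalization.mk'_eq_zero_iff]
  refine ⟨⟨f ^ k, k, rfl⟩, ?_⟩
  calc f ^ k * (g ^ m * x * y) = g ^ m * (x * (f ^ k * y)) := by ring
    _ = 0 := hm

end

/-- The complementary quotient. -/
theorem exists_complement (A : Type u) [CommRing A]
    (I : Ideal A) (hI : I.FG) (C : Type u) [CommRing C] [Algebra A C]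
    (h : ∀ f ∈ I, ∃ e : Localization.Away f, IsIdempotentElem e ∧
      IsLocalization.Away e (Localization (Algebra.algebraMapSubmonoid C (Submonoid.powers f)))) :
    ∃ K : Ideal A, ∀ f ∈ I, Function.Bijective
      (algebraMap (Localization.Away f)
        (Localization (Algebra.algebraMapSubmonoid (C × (A ⧸ K)) (Submonoid.powers f)))) := by
  choose! e he hloc using h
  let K : Ideal A := ⨅ f ∈ I, P C f
  have hK : ∀ f ∈ I, ∀ x ∈ K, x ∈ P C f := by
    intro f hf x hx
    simp only [K, Ideal.mem_iInf] at hx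
    exact hx f hf
  have hcompat : ∀ f ∈ I, ∀ g ∈ I, ∀ x ∈ P C g, ∃ m : ℕ, g ^ m * x ∈ P C f := by
    intro f hf g hg x hx
    have := hloc f hf
    exact pow_mul_mem_P (B := Localization.Away f) f
      (Localization (Algebra.algebraMapSubmonoid C (Submonoid.powers f))) (he f hf) g x hx
  have hinv : ∀ f ∈ I, ∀ x : A, ∀ n : ℕ, f ^ n * x ∈ P C f → x ∈ P C f := by
    intro f hf x n hx y k hy
    obtain ⟨m, hm⟩ := hx y k hy
    exact ⟨m + n, by rw [← hm]; ring⟩
  have hKf : ∀ f ∈ I, ∀ x ∈ P C f, ∃ m : ℕ, f ^ m * x ∈ K := by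
    intro f hf x hx
    obtain ⟨s, hs⟩ := hI
    have hs' : ∀ g ∈ s, g ∈ I := fun g hg => hs ▸ Ideal.subset_span hg
    -- a uniform exponent for the generators
    have h1 : ∃ m : ℕ, ∀ g ∈ s, f ^ m * x ∈ P C g := by
      choose! m hm using fun g hg => hcompat g (hs' g hg) f hf x hx
      refine ⟨s.sup m, fun g hg => ?_⟩
      have h2 : m g ≤ s.sup m := Finset.le_sup hg
      obtain ⟨k, hk⟩ := Nat.exists_eq_add_of_le h2
      rw [hk, pow_add, mul_comm (f ^ m g), mul_assoc]
      exact Ideal.mul_mem_left _ _ (hm g hg)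
    obtain ⟨m, hm⟩ := h1
    refine ⟨m, ?_⟩
    simp only [K, Ideal.mem_iInf]
    intro g hg
    -- `I` is contained in the radical of the colon ideal
    let J : Ideal A := Submodule.comap (LinearMap.toSpanSingleton A A (f ^ m * x)) (P C g)
    have hJ : ∀ a, a ∈ J ↔ a * (f ^ m * x) ∈ P C g := fun a => Iff.rfl
    have h3 : I ≤ J.radical := by
      rw [← hs, Submodule.span_le]
      intro g' hg'
      obtain ⟨n, hn⟩ := hcompat g hg g' (hs' g' hg') _ (hm g' hg')
      exact ⟨n, (hJ _).2 hn⟩
    obtain ⟨n, hn⟩ := h3 hg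
    exact hinv g hg _ n ((hJ _).1 hn)
  refine ⟨K, fun f hf => ?_⟩
  have hlocf := hloc f hf
  let B := Localization.Away f
  let F := Localization (Algebra.algebraMapSubmonoid C (Submonoid.powers f))
  let D := C × (A ⧸ K)
  let G := Localization (Algebra.algebraMapSubmonoid D (Submonoid.powers f))
  have hG0 : ∀ d : D, algebraMap D G d = 0 ↔ ∃ n : ℕ, algebraMap A D (f ^ n) * d = 0 :=
    fun d => algebraMap_loc_eq_zero_iff f G d
  have hzero : ∀ (c : C) (a : A), (∃ n : ℕ, algebraMap A C (f ^ n) * c = 0) →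
      (a ∈ P C f) → algebraMap D G (c, Ideal.Quotient.mk K a) = 0 := by
    rintro c a ⟨n, hn⟩ ha
    obtain ⟨m, hm⟩ := hKf f hf a ha
    rw [hG0]
    refine ⟨n + m, ?_⟩
    apply Prod.ext
    · change algebraMap A C (f ^ (n + m)) * c = 0
      rw [pow_add, map_mul, mul_comm (algebraMap A C (f ^ n)), mul_assoc, hn, mul_zero]
    · change Ideal.Quotient.mk K (f ^ (n + m)) * Ideal.Quotient.mk K a = 0
      rw [← map_mul, Ideal.Quotient.eq_zero_iff_mem, pow_add, mul_assoc]
      exact Ideal.mul_mem_left _ _ hm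
  have hunitf : ∀ n : ℕ, IsUnit (algebraMap A G (f ^ n)) := by
    intro n
    rw [IsScalarTower.algebraMap_apply A B G]
    exact (IsLocalization.map_units B (⟨f ^ n, n, rfl⟩ : Submonoid.powers f)).map _
  constructor
  · rw [injective_iff_map_eq_zero]
    intro z hz
    obtain ⟨x, ⟨_, n, rfl⟩, rfl⟩ := IsLocalization.exists_mk'_eq (Submonoid.powers f) z
    have h1 : algebraMap A G x = 0 := by
      rw [IsScalarTower.algebraMap_apply A B G, ← IsLocalization.mk'_spec B x
        (⟨f ^ n, n, rfl⟩ : Submonoid.powers f), map_mul, hz, zero_mul]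
    rw [IsScalarTower.algebraMap_apply A D G, hG0] at h1
    obtain ⟨m, hm⟩ := h1
    rw [← map_mul] at hm
    have hm1 : algebraMap A C (f ^ m * x) = 0 := congrArg Prod.fst hm
    have hm2 : f ^ m * x ∈ K := Ideal.Quotient.eq_zero_iff_mem.1 (congrArg Prod.snd hm)
    have h2 : x ∈ P C f := hinv f hf x m (hK f hf _ hm2)
    rw [mem_P_iff f F (he f hf)] at h2
    have h3 : algebraMap B F (algebraMap A B x) = 0 := by
      rw [← IsScalarTower.algebraMap_apply, IsScalarTower.algebraMap_apply A C F,
        algebraMap_loc_eq_zero_iff f]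
      exact ⟨m, by rw [← map_mul]; exact hm1⟩
    rw [ker_of_isLocalization_away_idem (he f hf)] at h3
    have h4 : algebraMap A B x = 0 := by
      calc algebraMap A B x = (1 - e f) * algebraMap A B x + e f * algebraMap A B x := by ring
        _ = 0 := by rw [h2, h3, add_zero]
    rw [IsLocalization.mk'_eq_zero_iff]
    obtain ⟨k, hk⟩ := (algebraMap_away_eq_zero_iff f B _).1 h4
    exact ⟨⟨f ^ k, k, rfl⟩, hk⟩
  · -- surjectivity
    have hrange : ∀ d : D, ∃ w : B, algebraMap B G w = algebraMap D G d := by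
      rintro ⟨c, a'⟩
      obtain ⟨a, rfl⟩ := Ideal.Quotient.mk_surjective a'
      obtain ⟨u, hu⟩ := surj_of_isLocalization_away_idem (he f hf) (algebraMap C F c)
      obtain ⟨b, ⟨_, j, rfl⟩, hb⟩ := IsLocalization.exists_mk'_eq (Submonoid.powers f) u
      obtain ⟨a₁, ⟨_, k, rfl⟩, ha₁⟩ := IsLocalization.exists_mk'_eq (Submonoid.powers f) (e f)
      have hb' : algebraMap A B b = u * algebraMap A B (f ^ j) := by
        rw [← hb]
        exact (IsLocalization.mk'_spec B b (⟨f ^ j, j, rfl⟩ : Submonoid.powers f)).symm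
      have ha' : algebraMap A B a₁ = e f * algebraMap A B (f ^ k) := by
        rw [← ha₁]
        exact (IsLocalization.mk'_spec B a₁ (⟨f ^ k, k, rfl⟩ : Submonoid.powers f)).symm
      let w' : A := a₁ * b + (f ^ k - a₁) * a * f ^ j
      have hw' : algebraMap A B w' =
          (e f * u + (1 - e f) * algebraMap A B a) * algebraMap A B (f ^ (k + j)) := by
        simp only [w', map_add, map_mul, map_sub, hb', ha', pow_add]
        ring
      have h5 : algebraMap D G (algebraMap A D w') =
          algebraMap D G (algebraMap A D (f ^ (k + j)) * (c, Ideal.Quotient.mk K a)) := by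
        rw [← sub_eq_zero, ← map_sub]
        have h6 : algebraMap A D w' - algebraMap A D (f ^ (k + j)) * (c, Ideal.Quotient.mk K a) =
            (algebraMap A C w' - algebraMap A C (f ^ (k + j)) * c,
              Ideal.Quotient.mk K (w' - f ^ (k + j) * a)) := rfl
        rw [h6]
        apply hzero
        · rw [← algebraMap_loc_eq_zero_iff f F, map_sub, map_mul, ← IsScalarTower.algebraMap_apply,
            ← IsScalarTower.algebraMap_apply, ← hu, IsScalarTower.algebraMap_apply A B F,
            IsScalarTower.algebraMap_apply A B F, hw', map_mul, map_add, map_mul, map_mul, map_sub,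
            map_one, map_eq_one (he f hf)]
          ring
        · rw [mem_P_iff f F (he f hf), map_sub, hw', map_mul]
          have h7 : e f * e f = e f := (he f hf).eq
          linear_combination (-algebraMap A B (f ^ (k + j)) * u +
            algebraMap A B (f ^ (k + j)) * algebraMap A B a) * h7
      refine ⟨e f * u + (1 - e f) * algebraMap A B a, ?_⟩
      rw [map_mul, ← IsScalarTower.algebraMap_apply, ← IsScalarTower.algebraMap_apply,
        IsScalarTower.algebraMap_apply A B G w', hw', map_mul,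
        ← IsScalarTower.algebraMap_apply, mul_comm] at h5
      exact (hunitf (k + j)).mul_left_cancel h5
    intro z
    obtain ⟨d, ⟨_, _, ⟨n, rfl⟩, rfl⟩, rfl⟩ := IsLocalization.exists_mk'_eq
      (Algebra.algebraMapSubmonoid D (Submonoid.powers f)) z
    obtain ⟨w, hw⟩ := hrange d
    refine ⟨w * IsLocalization.mk' B 1 (⟨f ^ n, n, rfl⟩ : Submonoid.powers f), ?_⟩
    rw [IsLocalization.eq_mk'_iff_mul_eq, map_mul, hw]
    change algebraMap D G d * algebraMap B G _ * algebraMap D G (algebraMap A D (f ^ n)) = _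
    rw [← IsScalarTower.algebraMap_apply, IsScalarTower.algebraMap_apply A B G, mul_assoc, ← map_mul]
    have h8 : (IsLocalization.mk' B 1 (⟨f ^ n, n, rfl⟩ : Submonoid.powers f)) *
        algebraMap A B (f ^ n) = 1 := by
      rw [IsLocalization.mk'_spec B 1 (⟨f ^ n, n, rfl⟩ : Submonoid.powers f), map_one]
    rw [h8, map_one, mul_one]

end K71.IdemCompl
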