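import Groth.Agent.CAlg.K71.ColimRegular
import Groth.Agent.CAlg.K71.FPFactor
import Groth.Agent.CalgC.IndEtale
import Groth.Agent.CalgB.RegHom6
import Groth.Agent.Ega4C.SmoothRegular
import Mathlib.Algebra.Colimit.DirectLimit

/-!
# Ind-smooth algebras

* `isRegularRing_of_isInd`: a Noetherian ring which is a "filtered colimit" (Lazard form) of smooth
  algebras over a regular ring is regular.
* `isIndSmooth_directLimit`: direct limits of smooth algebras are ind-smooth.
-/

set_option autoImplicit false
universe u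

open IsLocalRing

namespace K71.IndSmoothReg

/-- A Noetherian local ring, ind-smooth over a regular ring, is regular. -/
theorem isRegularLocalRing_of_isIndSmooth (k : Type u) (S : Type u) [CommRing k] [IsRegularRing k]
    [CommRing S] [IsLocalRing S] [IsNoetherianRing S] [Algebra k S]
    (h : Groth.Agent.CalgC.IndEtale.IsIndSmooth k S) : IsRegularLocalRing S := by
  apply K71.ColimRegular.Fac.isRegularLocalRing (k := k)
  intro ι κ _ _ c F hF
  obtain ⟨E, _, _, hE, χ, e, he, heF⟩ := Groth.Agent.CalgC.IndEtale.IsIndP.exists_stage'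
    ((Groth.Agent.CalgC.IndEtale.isIndSmooth_iff k S).1 h) c (Set.range F) (Set.finite_range F) (by
      rintro _ ⟨j, rfl⟩
      exact hF j)
  have hEreg : IsRegularRing E := Groth.Agent.Ega4C.SmoothRegular.isRegularRing_of_smooth k E
  let q : Ideal E := (maximalIdeal S).comap χ
  have hq : q.IsPrime := Ideal.comap_isPrime _ _
  have hunit : ∀ y : q.primeCompl, IsUnit (χ y) := by
    intro y
    have h1 : χ (y : E) ∉ maximalIdeal S := y.2
    rwa [mem_maximalIdeal, mem_nonunits_iff, not_not] at h1
  let χ' : Localization.AtPrime q →ₐ[k] S := IsLocalization.liftAlgHom (M := q.primeCompl) hunit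
  have hχ' : ∀ x : E, χ' (algebraMap E _ x) = χ x := fun x =>
    IsLocalization.lift_eq (M := q.primeCompl) (g := (χ : E →+* S)) hunit x
  refine ⟨Localization.AtPrime q, inferInstance, inferInstance, ?_, χ',
    fun i => algebraMap E _ (e i), ?_, ?_, ?_⟩
  · exact (isRegularRing_iff.1 hEreg) q
  · refine ⟨fun a ha => ?_⟩
    obtain ⟨x, s, rfl⟩ := IsLocalization.exists_mk'_eq q.primeCompl a
    have h2 : IsUnit (χ x) := by
      have h3 : χ' (IsLocalization.mk' _ x s) * χ s = χ x := by
        rw [← hχ' s, ← map_mul, IsLocalization.mk'_spec, hχ']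
      rw [← h3]
      exact ha.mul (hunit s)
    have h4 : x ∈ q.primeCompl := by
      intro h5
      have h6 : χ x ∈ maximalIdeal S := h5
      exact h6 h2
    exact (IsLocalization.AtPrime.isUnit_mk'_iff _ q x s).2 h4
  · intro i
    rw [hχ', he]
  · intro j
    have h7 : (IsScalarTower.toAlgHom k E (Localization.AtPrime q)).comp (MvPolynomial.aeval e) =
        MvPolynomial.aeval (fun i => algebraMap E (Localization.AtPrime q) (e i)) := by
      ext i
      simp
    rw [← h7]
    change algebraMap E (Localization.AtPrime q) (MvPolynomial.aeval e (F j)) = 0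
    rw [heF _ ⟨j, rfl⟩, map_zero]

/-- A Noetherian ring, ind-smooth over a regular ring, is regular. -/
theorem isRegularRing_of_isIndSmooth (k : Type u) (C : Type u) [CommRing k] [IsRegularRing k]
    [CommRing C] [IsNoetherianRing C] [Algebra k C]
    (h : Groth.Agent.CalgC.IndEtale.IsIndSmooth k C) : IsRegularRing C := by
  rw [isRegularRing_iff]
  intro q hq
  have : IsNoetherianRing (Localization.AtPrime q) :=
    IsLocalization.isNoetherianRing q.primeCompl _ inferInstance
  apply isRegularLocalRing_of_isIndSmooth k (Localization.AtPrime q)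
  have h1 := Groth.Agent.CalgC.IndEtale.isIndEtale_of_isLocalization q.primeCompl
    (Localization.AtPrime q)
  have h2 := Groth.Agent.CalgC.IndEtale.IsInd.of_isIndEtale
    Groth.Agent.CalgC.IndEtale.isGood_smooth h1
  exact Groth.Agent.CalgC.IndEtale.IsInd.comp Groth.Agent.CalgC.IndEtale.isGood_smooth h h2

/-- Ind-smooth algebras with Noetherian fibres are regular. -/
theorem isRegularHom_of_isIndSmooth (R Λ : Type u) [CommRing R] [CommRing Λ] [Algebra R Λ]
    (h : Groth.Agent.CalgC.IndEtale.IsIndSmooth R Λ)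
    (hN : ∀ (p : Ideal R) [p.IsPrime], IsNoetherianRing (p.Fiber Λ)) :
    CAlg.IsRegularHom R Λ := by
  refine ⟨Groth.Agent.CalgC.IndEtale.IsInd.flat Groth.Agent.CalgC.IndEtale.isGood_smooth h, ?_⟩
  intro p hp
  have := hN p
  refine ⟨this, ?_⟩
  intro k' _ _ _
  have h1 : Groth.Agent.CalgC.IndEtale.IsIndSmooth p.ResidueField (p.Fiber Λ) :=
    Groth.Agent.CalgC.IndEtale.IsInd.baseChange Groth.Agent.CalgC.IndEtale.isGood_smooth h
      p.ResidueField
  have h2 : Groth.Agent.CalgC.IndEtale.IsIndSmooth k' (TensorProduct p.ResidueField k' (p.Fiber Λ)) :=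
    Groth.Agent.CalgC.IndEtale.IsInd.baseChange Groth.Agent.CalgC.IndEtale.isGood_smooth h1 k'
  have h3 : IsNoetherianRing (TensorProduct p.ResidueField k' (p.Fiber Λ)) :=
    Groth.Agent.CalgB.RegHom6.isNoetherianRing_tensor p.ResidueField k' (p.Fiber Λ)
  exact isRegularRing_of_isIndSmooth k' _ h2

theorem isIndSmooth_directLimit (R : Type u) [CommRing R] {ι : Type u} [Preorder ι]
    [IsDirectedOrder ι] [Nonempty ι] (G : ι → Type u) [∀ i, CommRing (G i)] [∀ i, Algebra R (G i)]
    (f : ∀ i j : ι, i ≤ j → (G i →ₐ[R] G j)) [DirectedSystem G (fun i j h => f i j h)]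
    (hs : ∀ i, Algebra.Smooth R (G i)) :
    Groth.Agent.CalgC.IndEtale.IsIndSmooth R (DirectLimit G f) := by
  intro P _ _ _ φ
  let g : ∀ i, G i →ₐ[R] DirectLimit G f := fun i =>
    { toFun := fun x => ⟦⟨i, x⟩⟧
      map_one' := (DirectLimit.one_def (f := f) i).symm
      map_mul' := fun x y => (DirectLimit.mul_def (f := f) i x y).symm
      map_zero' := (DirectLimit.zero_def (f := f) i).symm
      map_add' := fun x y => (DirectLimit.add_def (f := f) i x y).symm
      commutes' := fun r => (DirectLimit.algebraMap_def i r).symm }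
  obtain ⟨i, ψ, hψ⟩ := K71.FPFactor.exists_factor f
    (fun i j k hij hjk x => DirectedSystem.map_map' (f := fun i j h => f i j h) hij hjk x) g
    (fun i j hij x => (DirectLimit.eq_of_le (f := f) ⟨i, x⟩ j hij).symm)
    (fun x => by
      induction x using DirectLimit.induction with
      | _ i x => exact ⟨i, x, rfl⟩)
    (fun i x hx => by
      have h1 : (⟦⟨i, x⟩⟧ : DirectLimit G f) = 0 := hx
      rw [DirectLimit.exists_eq_zero] at h1
      exact h1) P φ
  exact ⟨G i, inferInstance, inferInstance, hs i, ψ, g i, hψ⟩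

end K71.IndSmoothReg
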