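import Groth.Agent.CalgC.HenselIntDom
import Mathlib.RingTheory.Ideal.MinimalPrime.Basic
import Mathlib.RingTheory.Localization.AtPrime.Basic

/-!
# Unique maximal ideals over primes in integral algebras over henselian local rings;
unique minimal primes below a prime with a domain as local ring
-/

set_option autoImplicit false
universe u

namespace K71.MinMax

/-- In an integral algebra over a henselian local ring, each prime lies in exactly one maximal ideal. -/
theorem existsUnique_isMaximal_of_isIntegral {R D : Type u} [CommRing R] [HenselianLocalRing R] [CommRing D]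
    [Algebra R D] [Algebra.IsIntegral R D] (q : Ideal D) [hqp : q.IsPrime] :
    ∃! m : Ideal D, m.IsMaximal ∧ q ≤ m := by
  have hloc : IsLocalRing (D ⧸ q) :=
    Groth.Agent.CalgC.HenselIntDom.isLocalRing_of_isIntegral (A := R)
  obtain ⟨m, hm, hqm⟩ := Ideal.exists_le_maximal q hqp.ne_top
  refine ⟨m, ⟨hm, hqm⟩, ?_⟩
  rintro m' ⟨hm', hqm'⟩
  have key : ∀ n : Ideal D, n.IsMaximal → q ≤ n →
      n = (IsLocalRing.maximalIdeal (D ⧸ q)).comap (Ideal.Quotient.mk q) := by
    intro n hn hqn
    have h1 : (n.map (Ideal.Quotient.mk q)).IsMaximal := by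
      refine Ideal.IsMaximal.map_of_surjective_of_ker_le Ideal.Quotient.mk_surjective ?_
      rwa [Ideal.mk_ker]
    rw [← IsLocalRing.eq_maximalIdeal h1, Ideal.comap_map_of_surjective _ Ideal.Quotient.mk_surjective,
      ← RingHom.ker_eq_comap_bot, Ideal.mk_ker, sup_eq_left.2 hqn]
  rw [key m' hm' hqm', key m hm hqm]

/-- If the local ring at a prime `m` is a domain then `m` contains exactly one minimal prime. -/
theorem existsUnique_minimalPrimes {D : Type u} [CommRing D] (m : Ideal D) [hmp : m.IsPrime]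
    [IsDomain (Localization.AtPrime m)] : ∃! q : Ideal D, q ∈ minimalPrimes D ∧ q ≤ m := by
  let q : Ideal D := (⊥ : Ideal (Localization.AtPrime m)).comap (algebraMap _ (Localization.AtPrime m))
  have hqp : q.IsPrime := Ideal.comap_isPrime _ _
  have hle : ∀ p : Ideal D, p.IsPrime → p ≤ m → q ≤ p := by
    intro p hp hpm x hx
    have h6 : algebraMap _ (Localization.AtPrime m) x = 0 := hx
    obtain ⟨s, hs⟩ := (IsLocalization.map_eq_zero_iff m.primeCompl (Localization.AtPrime m) x).1 h6
    have h7 : (s : D) * x ∈ p := by rw [hs]; exact p.zero_mem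
    exact (hp.mem_or_mem h7).resolve_left fun h => s.2 (hpm h)
  have hqm : q ≤ m := hle m hmp le_rfl
  refine ⟨q, ⟨⟨⟨hqp, bot_le⟩, fun p hp hpq => hle p hp.1 (hpq.trans hqm)⟩, hqm⟩, ?_⟩
  rintro q' ⟨hq', hq'm⟩
  exact le_antisymm (hq'.2 ⟨hqp, bot_le⟩ (hle q' hq'.1.1 hq'm)) (hle q' hq'.1.1 hq'm)

end K71.MinMax
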