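import Groth.Prelude.Def_CAlg2
import Groth.Prelude.Def_EGA4b
import Groth.Agent.Ega4C.NormIntIn
import Mathlib.RingTheory.LocalProperties.Reduced
import Mathlib.RingTheory.Ideal.Quotient.Nilpotent

/-!
# The integral closure of `A_red` in its total ring of fractions is a normal ring
when `A` has finitely many minimal primes.
-/

set_option autoImplicit false
universe u

namespace K71.NormRed

open Groth.Agent.Ega4C.NormalRing Groth.Agent.Ega4C.NormIntIn

theorem minimalPrimes_red_finite {A : Type u} [CommRing A] (hfin : (minimalPrimes A).Finite) :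
    (minimalPrimes (CAlg2.red A)).Finite := by
  have h := Ideal.comap_minimalPrimes_eq_of_surjective (f := Ideal.Quotient.mk (nilradical A))
    Ideal.Quotient.mk_surjective (⊥ : Ideal (CAlg2.red A))
  have h1 : (Ideal.comap (Ideal.Quotient.mk (nilradical A)) ⊥).minimalPrimes = minimalPrimes A := by
    rw [← RingHom.ker_eq_comap_bot, Ideal.mk_ker, nilradical, Ideal.radical_minimalPrimes]
    rfl
  rw [h1] at h
  rw [h] at hfin
  exact Set.Finite.of_finite_image hfin
    (Ideal.comap_injective_of_surjective _ Ideal.Quotient.mk_surjective).injOn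

theorem isNormalRing_fractionRing {R : Type u} [CommRing R] [IsReduced R]
    (hfin : (minimalPrimes R).Finite) : EGA4.IsNormalRing (FractionRing R) := by
  have h1 : (minimalPrimes (FractionRing R)).Finite :=
    finite_minimalPrimes_of_isLocalization R (FractionRing R) (nonZeroDivisors R) hfin
  have h2 : IsReduced (FractionRing R) :=
    inferInstanceAs (IsReduced (Localization (nonZeroDivisors R)))
  have h3 : IsFractionRing (FractionRing R) (FractionRing R) := IsFractionRing.idem R _
  have h4 : IsIntegrallyClosed (FractionRing R) :=
    (isIntegrallyClosed_iff (FractionRing R)).2 fun {x} _ => ⟨x, rfl⟩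
  exact isNormalRing_of_isIntegrallyClosed _ h1

theorem isNormalRing_normRed {A : Type u} [CommRing A] (hfin : (minimalPrimes A).Finite) :
    EGA4.IsNormalRing (CAlg2.normRed A) := by
  have h0 : IsReduced (CAlg2.red A) :=
    (Ideal.isRadical_iff_quotient_reduced _).1 (Ideal.radical_isRadical _)
  have h1 := minimalPrimes_red_finite hfin
  exact isNormalRing_of_isIntegrallyClosedIn (CAlg2.normRed A) (FractionRing (CAlg2.red A))
    (isNormalRing_fractionRing h1)
    (finite_minimalPrimes_of_isLocalization _ _ (nonZeroDivisors (CAlg2.red A)) h1)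

end K71.NormRed
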